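import Cfsg.Agent.Spor.Fi23G
import Cfsg.Agent.Spor.Prim
import Cfsg.Agent.Spor.Fi31671.Main

set_option autoImplicit false
set_option maxRecDepth 100000

namespace Cfsg.Agent.Spor.Fi31671

open Cfsg.Spor Cfsg.Spor.Fi23

theorem hom : ∃ φ : Fi23 →* Equiv.Perm ℕ, ∀ j < 10, φ (Fi23G.f j) = fP j := Fi23G.hom cert.pres

noncomputable def φ : Fi23 →* Equiv.Perm ℕ := hom.choose

theorem hφ : ∀ j < 10, φ (Fi23G.f j) = fP j := hom.choose_spec

abbrev H : Subgroup Fi23 := wsub 10 Fi23G.f BW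

theorem act : CosetAct H φ 31671 := cert.act _ _ Fi23G.pres φ hφ Fi23G.top

theorem Heq : (Subgroup.closure ({a, b, c, d, e, f, g, h, i} : Set (FreeGroup Gen))).map (PresentedGroup.mk Fi23G.rels) = H :=
  Fi23G.coded.map_closure (ws := [a, b, c, d, e, f, g, h, i]) (by simp) (by decide +kernel) (by decide +kernel)

theorem map_H : H.map φ = wsub 10 fP BW := wsub_map hφ BW

theorem range_φ : φ.range = gsub 10 fP := range_eq_gsub hφ Fi23G.top

end Cfsg.Agent.Spor.Fi31671
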